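import Mathlib.RingTheory.TensorProduct.Maps
import Mathlib.RingTheory.Flat.Basic
import Mathlib.RingTheory.Flat.Stability
import Mathlib.LinearAlgebra.TensorProduct.Quotient
import Mathlib.RingTheory.Ideal.Prime
import Mathlib.LinearAlgebra.TensorProduct.Tower

/-!
Going down, stable under base change, for a ring map `A → B` carrying a `B`-module which is flat
over `A` and nonzero at the prime in question.
-/

universe u v w x

open TensorProduct

namespace Groth.Agent.H52.QFlat.GoingDown

theorem mem_smul_top_of_smul_mem {R : Type u} [CommRing R] {M : Type v} [AddCommGroup M] [Module R M]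
    [Module.Flat R M] {q : Ideal R} [q.IsPrime] {s : R} (hs : s ∉ q) {m : M}
    (h : s • m ∈ (q • ⊤ : Submodule R M)) : m ∈ (q • ⊤ : Submodule R M) := by
  let μ : (R ⧸ q) →ₗ[R] (R ⧸ q) := LinearMap.lsmul R _ s
  have hμ : Function.Injective μ := by
    rw [← LinearMap.ker_eq_bot, eq_bot_iff]
    intro z hz
    obtain ⟨r, rfl⟩ := Ideal.Quotient.mk_surjective z
    rw [LinearMap.mem_ker] at hz
    change Ideal.Quotient.mk q (s • r) = 0 at hz
    rw [Ideal.Quotient.eq_zero_iff_mem, smul_eq_mul] at hz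
    exact (Submodule.mem_bot R).mpr
      (Ideal.Quotient.eq_zero_iff_mem.mpr ((Ideal.IsPrime.mem_or_mem inferInstance hz).resolve_left hs))
  have hinj := Module.Flat.lTensor_preserves_injective_linearMap (M := M) μ hμ
  rw [← Submodule.Quotient.mk_eq_zero] at h ⊢
  apply (tensorQuotEquivQuotSMul M q).symm.injective
  apply hinj
  rw [map_zero, map_zero]
  have : μ.lTensor M ((tensorQuotEquivQuotSMul M q).symm (Submodule.Quotient.mk m)) =
      (tensorQuotEquivQuotSMul M q).symm (Submodule.Quotient.mk (s • m)) := by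
    rw [tensorQuotEquivQuotSMul_symm_mk, tensorQuotEquivQuotSMul_symm_mk, LinearMap.lTensor_tmul,
      TensorProduct.smul_tmul]
    rfl
  rw [this, h, map_zero]

variable {A : Type u} {A' : Type v} {B : Type w} [CommRing A] [CommRing A'] [CommRing B]
  [Algebra A A'] [Algebra A B] (N : Type x) [AddCommGroup N] [Module A N] [Module B N]
  [IsScalarTower A B N]

theorem exists_prime_le [Module.Flat A N] (Q : Ideal (A' ⊗[A] B)) [Q.IsPrime]
    (ψ : N →ₗ[B] B ⧸ Q.comap (Algebra.TensorProduct.includeRight (R := A) (A := A') (B := B)))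
    (hψ : ψ ≠ 0) (q : Ideal A') [q.IsPrime]
    (hq : q ≤ Q.comap (Algebra.TensorProduct.includeLeftRingHom : A' →+* A' ⊗[A] B)) :
    ∃ P : Ideal (A' ⊗[A] B), P.IsPrime ∧ P ≤ Q ∧
      P.comap (Algebra.TensorProduct.includeLeftRingHom : A' →+* A' ⊗[A] B) = q := by
  let act : B →ₐ[A] Module.End A' (A' ⊗[A] N) :=
    (Module.End.baseChangeHom A A' N).comp (Algebra.lsmul A A N)
  let Φ : A' ⊗[A] B →ₐ[A'] Module.End A' (A' ⊗[A] N) :=
    Algebra.TensorProduct.lift (Algebra.ofId A' _) act fun a b => Algebra.commute_algebraMap_left a _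
  have hΦ : ∀ (a : A') (b : B) (z : A' ⊗[A] N), Φ (a ⊗ₜ b) z = a • act b z := fun a b z => rfl
  let T : Submodule A' (A' ⊗[A] N) := q • ⊤
  let J : Ideal (A' ⊗[A] B) :=
    { carrier := {c | ∀ z, Φ c z ∈ T}
      zero_mem' := fun z => by simp
      add_mem' := fun {a b} ha hb z => by rw [map_add]; exact add_mem (ha z) (hb z)
      smul_mem' := fun d c hc z => by
        rw [smul_eq_mul, map_mul]
        have hle : T ≤ T.comap (Φ d) := Submodule.smul_le.mpr fun a ha y _ => by
          rw [Submodule.mem_comap, map_smul]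
          exact Submodule.smul_mem_smul ha Submodule.mem_top
        exact hle (hc z) }
  let S : Submonoid (A' ⊗[A] B) :=
    (q.primeCompl.map (Algebra.TensorProduct.includeLeftRingHom : A' →+* A' ⊗[A] B)) ⊔ Q.primeCompl
  obtain ⟨n, hn⟩ : ∃ n, ψ n ≠ 0 := by
    by_contra hh
    push Not at hh
    exact hψ (LinearMap.ext hh)
  let π : B ⧸ Q.comap (Algebra.TensorProduct.includeRight (R := A) (A := A') (B := B)) →ₐ[A]
      (A' ⊗[A] B) ⧸ Q :=
    Ideal.quotientMapₐ Q (Algebra.TensorProduct.includeRight (R := A) (A := A') (B := B)) le_rfl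
  let ψ0 : A' ⊗[A] N →ₗ[A'] (A' ⊗[A] B) ⧸ Q :=
    (π.toLinearMap ∘ₗ ψ.restrictScalars A).liftBaseChange A'
  have hsm : ∀ (a : A') (x : (A' ⊗[A] B) ⧸ Q), a • x = Ideal.Quotient.mk Q (a ⊗ₜ 1) * x := by
    intro a x
    obtain ⟨x, rfl⟩ := Ideal.Quotient.mk_surjective x
    rw [← map_mul]
    show Ideal.Quotient.mk Q (a • x) = _
    rw [Algebra.smul_def]
    rfl
  have hψ0 : ∀ c z, ψ0 (Φ c z) = Ideal.Quotient.mk Q c * ψ0 z := by
    intro c z
    induction c with
    | zero => simp
    | add a b ha hb => simp [ha, hb, add_mul]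
    | tmul a b =>
      induction z with
      | zero => simp
      | add y y' hy hy' => simp only [map_add, hy, hy', mul_add]
      | tmul a' m =>
        have h1 : Φ (a ⊗ₜ b) (a' ⊗ₜ m) = a • (a' ⊗ₜ[A] (b • m)) := by
          rw [hΦ]; rfl
        have h2 : π (ψ (b • m)) = Ideal.Quotient.mk Q ((1 : A') ⊗ₜ[A] b) * π (ψ m) := by
          rw [map_smul, Algebra.smul_def, map_mul]
          rfl
        have h3 : Ideal.Quotient.mk Q (a ⊗ₜ[A] b) =
            algebraMap A' ((A' ⊗[A] B) ⧸ Q) a * Ideal.Quotient.mk Q ((1 : A') ⊗ₜ[A] b) := by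
          rw [IsScalarTower.algebraMap_apply A' (A' ⊗[A] B) ((A' ⊗[A] B) ⧸ Q),
            Ideal.Quotient.algebraMap_eq, ← map_mul]
          simp
        rw [h1, map_smul]
        simp only [ψ0, LinearMap.liftBaseChange_tmul, LinearMap.comp_apply,
          LinearMap.coe_restrictScalars, AlgHom.toLinearMap_apply, h2, h3]
        simp only [hsm]
        rw [IsScalarTower.algebraMap_apply A' (A' ⊗[A] B) ((A' ⊗[A] B) ⧸ Q)]
        simp only [Algebra.TensorProduct.algebraMap_apply, Algebra.algebraMap_self, RingHom.id_apply,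
          Ideal.Quotient.algebraMap_eq]
        ring
  have hT : ∀ z ∈ T, ψ0 z = 0 := by
    have : T ≤ LinearMap.ker ψ0 := Submodule.smul_le.mpr fun a ha y _ => by
      rw [LinearMap.mem_ker, map_smul, hsm]
      refine mul_eq_zero_of_left ?_ _
      rw [Ideal.Quotient.eq_zero_iff_mem]
      exact hq ha
    exact fun z hz => this hz
  have hJQ : ∀ c ∈ J, c ∈ Q := by
    intro c hc
    have h := hT _ (hc ((1 : A') ⊗ₜ n))
    rw [hψ0, mul_eq_zero, Ideal.Quotient.eq_zero_iff_mem] at h
    refine h.resolve_right ?_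
    simp only [ψ0, LinearMap.liftBaseChange_tmul, one_smul, LinearMap.comp_apply,
      LinearMap.coe_restrictScalars, AlgHom.toLinearMap_apply]
    intro h0
    exact hn (Ideal.quotientMap_injective (f :=
      (Algebra.TensorProduct.includeRight (R := A) (A := A') (B := B)).toRingHom) (I := Q)
      (h0.trans (map_zero _).symm))
  have hdisj : Disjoint (J : Set (A' ⊗[A] B)) S := by
    rw [Set.disjoint_left]
    intro c hc hcS
    obtain ⟨_, ⟨s, hs, rfl⟩, b, hb, rfl⟩ := Submonoid.mem_sup.mp hcS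
    refine hb (hJQ b fun z => ?_)
    have h := hc z
    rw [map_mul] at h
    have h' : s • Φ b z ∈ T := by
      have e : ∀ y, Φ (Algebra.TensorProduct.includeLeftRingHom s) y = s • y := fun y => by
        show Φ (s ⊗ₜ 1) y = _
        rw [hΦ, map_one]; rfl
      rw [← e]; exact h
    exact mem_smul_top_of_smul_mem hs h'
  obtain ⟨P, hP, hJP, hPS⟩ := Ideal.exists_le_prime_disjoint J S hdisj
  refine ⟨P, hP, fun c hc => ?_, le_antisymm (fun a ha => ?_) fun a ha => ?_⟩
  · by_contra hcQ
    exact Set.disjoint_left.mp hPS hc (Submonoid.mem_sup_right hcQ)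
  · by_contra haq
    exact Set.disjoint_left.mp hPS ha (Submonoid.mem_sup_left ⟨a, haq, rfl⟩)
  · refine hJP fun z => ?_
    have : Φ (Algebra.TensorProduct.includeLeftRingHom a) z = a • z := by
      show Φ (a ⊗ₜ 1) z = _
      rw [hΦ, map_one]; rfl
    rw [this]
    exact Submodule.smul_mem_smul ha Submodule.mem_top

end Groth.Agent.H52.QFlat.GoingDown
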